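import Mathlib.RingTheory.GradedAlgebra.Homogeneous.Ideal
import Mathlib.RingTheory.Ideal.Quotient.Basic

/-! Gradings of quotients by homogeneous ideals. -/

set_option autoImplicit false

namespace KumFamLib

open DirectSum

universe u v

variable {ι : Type u} [DecidableEq ι] [AddMonoid ι] {A : Type v} [CommRing A] (𝒜 : ι → AddSubgroup A)
  [GradedRing 𝒜] (I : Ideal A)

/-- the image grading -/
def quot (i : ι) : AddSubgroup (A ⧸ I) := (𝒜 i).map (Ideal.Quotient.mk I : A →+ A ⧸ I)

theorem isInternal_quot (h : I.IsHomogeneous 𝒜) : DirectSum.IsInternal (quot 𝒜 I) := by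
  classical
  let q : ∀ i, 𝒜 i →+ quot 𝒜 I i := fun i => AddMonoidHom.addSubgroupMap (Ideal.Quotient.mk I : A →+ A ⧸ I) (𝒜 i)
  let L : A →+ ⨁ i, quot 𝒜 I i := (DirectSum.map q).comp (decomposeAddEquiv 𝒜).toAddMonoidHom
  have hL : ∀ (x : A) i, ((L x i : quot 𝒜 I i) : A ⧸ I) = Ideal.Quotient.mk I (decompose 𝒜 x i : A) := fun x i => by
    show ((DirectSum.map q (decompose 𝒜 x) i : quot 𝒜 I i) : A ⧸ I) = _
    rw [DirectSum.map_apply]
    rfl
  have hker : I.toAddSubgroup ≤ L.ker := fun x hx => by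
    refine DFinsupp.ext fun i => Subtype.ext ?_
    rw [hL]
    exact Ideal.Quotient.eq_zero_iff_mem.2 (h i hx)
  let L' : A ⧸ I →+ ⨁ i, quot 𝒜 I i := QuotientAddGroup.lift I.toAddSubgroup L hker
  have hleft : ∀ x, DirectSum.coeAddMonoidHom (quot 𝒜 I) (L x) = Ideal.Quotient.mk I x := by
    intro x
    suffices ((DirectSum.coeAddMonoidHom (quot 𝒜 I)).comp L) = (Ideal.Quotient.mk I : A →+ A ⧸ I) from
      DFunLike.congr_fun this x
    refine AddMonoidHom.ext fun y => ?_
    induction y using Decomposition.inductionOn 𝒜 with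
    | zero => simp
    | homogeneous m =>
      show DirectSum.coeAddMonoidHom (quot 𝒜 I) (DirectSum.map q (decompose 𝒜 (m : A))) = _
      rw [decompose_coe, DirectSum.map_of, DirectSum.coeAddMonoidHom_of]
      rfl
    | add a b ha hb => rw [map_add, map_add, ha, hb]
  constructor
  · refine Function.LeftInverse.injective (g := L') fun z => ?_
    induction z using DirectSum.induction_on with
    | zero => simp
    | of i y =>
      obtain ⟨y, x, hx, rfl⟩ := y
      rw [DirectSum.coeAddMonoidHom_of]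
      show L x = _
      show DirectSum.map q (decompose 𝒜 x) = _
      rw [decompose_of_mem 𝒜 hx, DirectSum.map_of]
      rfl
    | add a b ha hb => rw [map_add, map_add, ha, hb]
  · intro z
    obtain ⟨x, rfl⟩ := Ideal.Quotient.mk_surjective z
    exact ⟨L x, hleft x⟩

theorem isHomogeneous_iff :
    I.IsHomogeneous 𝒜 ↔ ∃ ℬ : ι → AddSubgroup (A ⧸ I), Nonempty (GradedRing ℬ) ∧
      ∀ i : ι, (𝒜 i).map (Ideal.Quotient.mk I : A →+ A ⧸ I) ≤ ℬ i := by
  classical
  constructor
  · intro h
    refine ⟨quot 𝒜 I, ⟨?_⟩, fun i => le_rfl⟩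
    haveI : SetLike.GradedMonoid (quot 𝒜 I) :=
      { one_mem := ⟨1, SetLike.GradedOne.one_mem, map_one (Ideal.Quotient.mk I)⟩
        mul_mem := by
          rintro i j _ _ ⟨x, hx, rfl⟩ ⟨y, hy, rfl⟩
          exact ⟨x * y, SetLike.GradedMul.mul_mem hx hy, map_mul (Ideal.Quotient.mk I) _ _⟩ }
    exact { (isInternal_quot 𝒜 I h).chooseDecomposition _ with }
  · rintro ⟨ℬ, ⟨hG⟩, hle⟩ i x hx
    let q : ∀ i, 𝒜 i →+ ℬ i := fun i =>
      { toFun := fun y => ⟨Ideal.Quotient.mk I (y : A), hle i ⟨y, y.2, rfl⟩⟩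
        map_zero' := Subtype.ext (map_zero _)
        map_add' := fun a b => Subtype.ext (map_add _ _ _) }
    have key : ∀ y, DirectSum.map q (decompose 𝒜 y) = decompose ℬ (Ideal.Quotient.mk I y) := by
      intro y
      induction y using Decomposition.inductionOn 𝒜 with
      | zero => simp
      | homogeneous m =>
        rw [decompose_coe, DirectSum.map_of]
        exact (decompose_of_mem ℬ (hle _ ⟨m, m.2, rfl⟩)).symm
      | add a b ha hb => rw [decompose_add, map_add, map_add, decompose_add, ha, hb]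
    have h1 := key x
    rw [Ideal.Quotient.eq_zero_iff_mem.2 hx, decompose_zero] at h1
    have h2 : DirectSum.map q (decompose 𝒜 x) i = 0 := by rw [h1]; rfl
    rw [DirectSum.map_apply] at h2
    exact Ideal.Quotient.eq_zero_iff_mem.1 (congrArg Subtype.val h2)

end KumFamLib
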