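import Mathlib.AlgebraicGeometry.Limits
import Mathlib.AlgebraicGeometry.Cover.Open
import Mathlib.Topology.LocallyConstant.Basic

/-! Points of constant schemes. -/

set_option autoImplicit false

namespace KumFamLib

open AlgebraicGeometry CategoryTheory CategoryTheory.Limits

universe u

variable {S : Scheme.{u}} (M : Type u) {T : Scheme.{u}} (p : T ⟶ S)

/-- the index of the copy -/
noncomputable def idx (f : T ⟶ ∐ (fun _ : M => S)) : LocallyConstant T M where
  toFun t := ((sigmaMk (fun _ : M => S)).symm (f.base t)).1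
  isLocallyConstant := IsLocallyConstant.iff_exists_open _ |>.2 fun t => by
    let m := ((sigmaMk (fun _ : M => S)).symm (f.base t)).1
    refine ⟨(fun t => (sigmaMk (fun _ : M => S)).symm (f.base t)) ⁻¹' (Set.range (Sigma.mk m)),
      isOpen_range_sigmaMk.preimage ((sigmaMk _).symm.continuous.comp f.continuous), ⟨_, rfl⟩, fun s hs => ?_⟩
    obtain ⟨y, hy⟩ := hs
    exact (congrArg Sigma.fst hy).symm

theorem exists_equiv_locallyConstant :
    ∃ e : {f : T ⟶ ∐ (fun _ : M => S) // f ≫ Sigma.desc (fun _ : M => 𝟙 S) = p} ≃ LocallyConstant T M,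
      ∀ (f : {f : T ⟶ ∐ (fun _ : M => S) // f ≫ Sigma.desc (fun _ : M => 𝟙 S) = p}) (t : T),
        e f t = ((sigmaMk (fun _ : M => S)).symm (f.1.base t)).1 := by
  classical
  let U : LocallyConstant T M → M → T.Opens := fun g m => ⟨g ⁻¹' {m}, g.isLocallyConstant.isOpen_fiber m⟩
  have hU : ∀ g, TopologicalSpace.IsOpenCover (U g) := fun g => by
    rw [TopologicalSpace.IsOpenCover, eq_top_iff]
    intro t _
    exact TopologicalSpace.Opens.mem_iSup.2 ⟨g t, rfl⟩
  let piece : ∀ (g : LocallyConstant T M) (m : M), (U g m).toScheme ⟶ ∐ (fun _ : M => S) := fun g m =>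
    (U g m).ι ≫ p ≫ Sigma.ι (fun _ : M => S) m
  have hcompat : ∀ g (i j : M), pullback.fst (U g i).ι (U g j).ι ≫ piece g i =
      pullback.snd (U g i).ι (U g j).ι ≫ piece g j := fun g i j => by
    by_cases h : i = j
    · subst h
      rw [show pullback.fst (U g i).ι (U g i).ι = pullback.snd (U g i).ι (U g i).ι from
        (cancel_mono (U g i).ι).1 pullback.condition]
    · haveI : IsEmpty (pullback (U g i).ι (U g j).ι : Scheme.{u}) := ⟨fun z => h (by
        have h1 : g ((U g i).ι (pullback.fst (U g i).ι (U g j).ι z)) = i :=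
          (pullback.fst (U g i).ι (U g j).ι z).2
        have h2 : g ((U g j).ι (pullback.snd (U g i).ι (U g j).ι z)) = j :=
          (pullback.snd (U g i).ι (U g j).ι z).2
        exact h1.symm.trans ((congrArg g (by
          rw [← Scheme.Hom.comp_apply, ← Scheme.Hom.comp_apply, pullback.condition])).trans h2))⟩
      exact isInitialOfIsEmpty.hom_ext _ _
  let glue : LocallyConstant T M → (T ⟶ ∐ (fun _ : M => S)) := fun g =>
    (T.openCoverOfIsOpenCover (U g) (hU g)).glueMorphisms (piece g) (hcompat g)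
  have hglue : ∀ g m, (U g m).ι ≫ glue g = piece g m := fun g m =>
    (T.openCoverOfIsOpenCover (U g) (hU g)).ι_glueMorphisms (piece g) (hcompat g) m
  have hglue' : ∀ g, glue g ≫ Sigma.desc (fun _ : M => 𝟙 S) = p := fun g =>
    (T.openCoverOfIsOpenCover (U g) (hU g)).hom_ext _ _ fun m => by
      show (U g m).ι ≫ glue g ≫ _ = (U g m).ι ≫ p
      rw [reassoc_of% hglue g m]
      simp [piece]
  refine ⟨{ toFun := fun f => idx M f.1, invFun := fun g => ⟨glue g, hglue' g⟩, left_inv := ?_, right_inv := ?_ },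
    fun f t => rfl⟩
  · rintro ⟨f, hf⟩
    refine Subtype.ext ((T.openCoverOfIsOpenCover (U (idx M f)) (hU _)).hom_ext _ _ fun (m : M) => ?_)
    show (U (idx M f) m).ι ≫ glue (idx M f) = (U (idx M f) m).ι ≫ f
    rw [hglue (idx M f) m]
    have hrange : Set.range ((U (idx M f) m).ι ≫ f).base ⊆ Set.range (Sigma.ι (fun _ : M => S) m).base := by
      rintro _ ⟨⟨t, ht⟩, rfl⟩
      refine ⟨((sigmaMk (fun _ : M => S)).symm (f.base t)).2, ?_⟩
      have h1 : ((sigmaMk (fun _ : M => S)).symm (f.base t)).1 = m := ht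
      have h2 := (sigmaMk (fun _ : M => S)).apply_symm_apply (f.base t)
      rcases hz : (sigmaMk (fun _ : M => S)).symm (f.base t) with ⟨i, x⟩
      rw [hz] at h1 h2
      subst h1
      rw [sigmaMk_mk] at h2
      exact h2
    have hl := IsOpenImmersion.lift_fac (Sigma.ι (fun _ : M => S) m) ((U (idx M f) m).ι ≫ f) hrange
    set l := IsOpenImmersion.lift (Sigma.ι (fun _ : M => S) m) ((U (idx M f) m).ι ≫ f) hrange
    have hlp : l = (U (idx M f) m).ι ≫ p := by
      rw [← hf, ← Category.assoc, ← hl, Category.assoc, Sigma.ι_desc, Category.comp_id]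
    rw [← hl, hlp]
    simp [piece]
  · intro g
    refine LocallyConstant.ext fun t => ?_
    show ((sigmaMk (fun _ : M => S)).symm ((glue g).base t)).1 = g t
    have h1 : glue g t = Sigma.ι (fun _ : M => S) (g t) (p t) := by
      have h := congrArg (fun φ : (U g (g t)).toScheme ⟶ ∐ (fun _ : M => S) => φ ⟨t, rfl⟩) (hglue g (g t))
      exact h
    rw [h1, ← sigmaMk_mk (fun _ : M => S) (g t) (p t), Homeomorph.symm_apply_apply]

end KumFamLib
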